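import Groth.Agent.W7FTH.Basic
import Groth.Agent.GrT.TwistEpi
import Groth.Agent.CohFinite.ProjSpace
import Groth.Agent.RelPCS.Push
import Groth.Agent.QC.Extend

/-!
Twists detect isomorphisms of quasi-coherent modules on closed subschemes of projective space.
-/

set_option autoImplicit false
set_option backward.isDefEq.respectTransparency false
set_option backward.isDefEq.respectTransparency.types false
set_option linter.style.haveILetI false

universe u

open CategoryTheory Limits AlgebraicGeometry

noncomputable section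

namespace Groth.Agent.TwistDetect

/-- A map killing every finite type submodule is zero. -/
theorem eq_zero_of_fgSub {Y : Scheme.{u}} [CompactSpace Y] [QuasiSeparatedSpace Y] {N Q : Y.Modules}
    [N.IsQuasicoherent] (g : N ⟶ Q) (h : ∀ S : W7FTH.FGSub N, S.1.ι ≫ g = 0) : g = 0 := by
  refine (SheafOfModules.toSheaf Y.ringCatSheaf).map_injective ?_
  rw [Functor.map_zero]
  refine (W7FTH.isColimitCocone N).hom_ext fun S => ?_
  show (SheafOfModules.toSheaf Y.ringCatSheaf).map S.1.ι ≫ (SheafOfModules.toSheaf Y.ringCatSheaf).map g =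
    (SheafOfModules.toSheaf Y.ringCatSheaf).map S.1.ι ≫ 0
  rw [← Functor.map_comp, h S, Functor.map_zero, comp_zero]

variable (n : ℕ) (R : Type u) [CommRing R] [IsNoetherianRing R]

/-- Maps out of finite type modules are detected by twists `O(m)`, `m ≤ m₀`. -/
theorem eq_zero_of_twists {S Q : (CohB1.ProjSpace n R).Modules} (hS : Coh.IsQCoh S) (hFT : CohB1.IsFT S)
    (g : S ⟶ Q) (m₀ : ℤ) (h : ∀ m : ℤ, m ≤ m₀ → ∀ a : Twist.twistProjSpace n R m ⟶ S, a ≫ g = 0) : g = 0 := by
  obtain ⟨N, hN⟩ := GrT.exists_epi_twists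
    (v := fun i : ProjCech.J.{u} n => (MvPolynomial.X i.down : MvPolynomial (Fin (n + 1)) R))
    (fun i => MvPolynomial.isHomogeneous_X R i.down) hS hFT (CohFinite.cov_X n R)
  obtain ⟨k, p, hp⟩ := hN (max N (-m₀).toNat) (le_max_left _ _)
  rw [← cancel_epi p, comp_zero]
  refine Sigma.hom_ext _ _ fun j => ?_
  rw [comp_zero, ← Category.assoc]
  exact h _ (by omega) _

theorem isIso_of_twists_le {M N : (CohB1.ProjSpace n R).Modules} (hM : Coh.IsQCoh M) (hN : Coh.IsQCoh N)
    (v : M ⟶ N) (m₀ : ℤ) (h : ∀ m : ℤ, m ≤ m₀ → Function.Bijective fun a : Twist.twistProjSpace n R m ⟶ M => a ≫ v) :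
    IsIso v := by
  haveI := CohFinite.isNoetherian_projSpace n R
  haveI : M.IsQuasicoherent := hM
  haveI : N.IsQuasicoherent := hN
  have hmono : Mono v := by
    refine Preadditive.mono_of_kernel_zero ?_
    haveI : (kernel v).IsQuasicoherent := QC.isQCoh_kernel hM hN v
    have hι : 𝟙 (kernel v) = 0 := eq_zero_of_fgSub _ fun S => by
      obtain ⟨hS, hFT⟩ := QC.Sub.isCoh_toModules S.2
      rw [Category.comp_id]
      refine eq_zero_of_twists n R hS hFT _ m₀ fun m hm a => ?_
      rw [← cancel_mono (kernel.ι v), zero_comp]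
      exact (h m hm).1 (by simp)
    rw [← Category.id_comp (kernel.ι v), hι, zero_comp]
  have hepi : Epi v := by
    refine Preadditive.epi_of_cokernel_zero ?_
    refine eq_zero_of_fgSub _ fun S => ?_
    obtain ⟨hS, hFT⟩ := QC.Sub.isCoh_toModules S.2
    refine eq_zero_of_twists n R hS hFT _ m₀ fun m hm a => ?_
    obtain ⟨b, hb⟩ := (h m hm).2 (a ≫ S.1.ι)
    rw [← Category.assoc, ← show b ≫ v = a ≫ S.1.ι from hb, Category.assoc, cokernel.condition, comp_zero]
  exact isIso_of_mono_of_epi v

theorem isIso_of_twists {M N : (CohB1.ProjSpace n R).Modules} (hM : Coh.IsQCoh M) (hN : Coh.IsQCoh N)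
    (v : M ⟶ N) (h : ∀ m : ℤ, Function.Bijective fun a : Twist.twistProjSpace n R m ⟶ M => a ≫ v) : IsIso v :=
  isIso_of_twists_le n R hM hN v 0 fun m _ => h m

variable {X : Scheme.{u}} (ι : X ⟶ CohB1.ProjSpace n R) [IsClosedImmersion ι]

theorem isIso_of_twists_closed {M N : X.Modules} (hM : Coh.IsQCoh M) (hN : Coh.IsQCoh N) (u : M ⟶ N)
    (h : ∀ m : ℤ, Function.Bijective
      fun a : (Scheme.Modules.pullback ι).obj (Twist.twistProjSpace n R m) ⟶ M => a ≫ u) : IsIso u := by
  haveI := GrothSS.isIso_counit_push ι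
  haveI := ((Scheme.Modules.pullbackPushforwardAdjunction ι).fullyFaithfulROfIsIsoCounit).faithful
  haveI := ((Scheme.Modules.pullbackPushforwardAdjunction ι).fullyFaithfulROfIsIsoCounit).full
  have := isIso_of_twists n R (QC.isQCoh_pushforward (hM := hM) ι) (QC.isQCoh_pushforward (hM := hN) ι)
    ((Scheme.Modules.pushforward ι).map u) fun m => by
      let e := fun Z : X.Modules => (Scheme.Modules.pullbackPushforwardAdjunction ι).homEquiv
        (Twist.twistProjSpace n R m) Z
      refine (Function.Bijective.of_comp_iff _ (e M).bijective).1 ?_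
      have : (fun a => a ≫ (Scheme.Modules.pushforward ι).map u) ∘ (e M) = (e N) ∘ fun a => a ≫ u :=
        funext fun a => (Adjunction.homEquiv_naturality_right _ a u).symm
      rw [this]
      exact (e N).bijective.comp (h m)
  exact isIso_of_fully_faithful (Scheme.Modules.pushforward ι) u

end Groth.Agent.TwistDetect
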